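import Groth.Agent.CohDerLib.RFLim.QisProd
import Groth.Agent.DHA.KInj.Products
import Mathlib.Algebra.Homology.DerivedCategory.Fractions

/-!
# Countable products in derived categories
-/

set_option backward.isDefEq.respectTransparency.types false

universe w v u

open CategoryTheory CategoryTheory.Limits CochainComplex.HomComplex DerivedCategory

namespace Groth.Agent.CohDerLib.RFLim

variable {A : Type u} [Category.{v} A] [Abelian A] [HasDerivedCategory.{w} A]
  [HasProductsOfShape ℕ A] {K : ℕ → CochainComplex A ℤ} {c : Fan K}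

lemma nonempty_isLimit_fan {D : Type*} [Category D] {F : ℕ → D} (c : Fan F)
    (h : ∀ s : Fan F, ∃! φ : s.pt ⟶ c.pt, ∀ n, φ ≫ c.proj n = s.proj n) : Nonempty (IsLimit c) :=
  ⟨Fan.IsLimit.mk c (fun s => (h s).choose) (fun s n => (h s).choose_spec.1 n)
    (fun s m hm => (h s).choose_spec.2 m hm)⟩

omit [HasDerivedCategory.{w} A] in
lemma exists_homotopy_fan (hc : IsLimit c) {X : CochainComplex A ℤ} (f : X ⟶ c.pt)
    (hf : ∀ n, Nonempty (Homotopy (f ≫ c.proj n) 0)) : Nonempty (Homotopy f 0) := by
  let H := fun n => (hf n).some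
  refine ⟨{ hom := fun i j => Fan.IsLimit.lift (evalIsLimit c hc j) fun n => (H n).hom i j
            zero := fun i j hij => Fan.IsLimit.hom_ext (evalIsLimit c hc j) _ _ fun n => ?_
            comm := fun p => Fan.IsLimit.hom_ext (evalIsLimit c hc p) _ _ fun n => ?_ }⟩
  · rw [Fan.IsLimit.fac, (H n).zero i j hij, zero_comp]
  · have h := (H n).comm p
    rw [dNext_eq _ (show (ComplexShape.up ℤ).Rel p (p + 1) from rfl),
      prevD_eq _ (show (ComplexShape.up ℤ).Rel (p - 1) p by simp)] at h ⊢
    simp only [HomologicalComplex.zero_f, add_zero, HomologicalComplex.comp_f] at h ⊢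
    have e : ∀ i j, (Fan.IsLimit.lift (evalIsLimit c hc j) fun n => (H n).hom i j) ≫ (c.proj n).f j =
        (H n).hom i j := fun i j => Fan.IsLimit.fac (evalIsLimit c hc j) _ n
    simp only [fan_mk_proj, Preadditive.add_comp, Category.assoc]
    rw [h, e, ← (c.proj n).comm, reassoc_of% (e p (p - 1))]

lemma Q_map_fan_eq_zero_of_homotopy (hc : IsLimit c) {X : CochainComplex A ℤ} (f : X ⟶ c.pt)
    (hf : ∀ n, Nonempty (Homotopy (f ≫ c.proj n) 0)) : Q.map f = 0 :=
  (DerivedCategory.Q_map_eq_of_homotopy _ (exists_homotopy_fan hc f hf).some).trans (Q.map_zero _ _)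

/-- Products of K-injective complexes are products in the derived category. -/
theorem nonempty_isLimit_Q_of_isKInjective (hc : IsLimit c) [∀ n, (K n).IsKInjective] :
    c.pt.IsKInjective ∧
      Nonempty (IsLimit (Fan.mk (Q.obj c.pt) fun n => Q.map (c.proj n))) := by
  have hK : c.pt.IsKInjective := ⟨fun {X} f hX => exists_homotopy_fan hc f fun n =>
    ⟨CochainComplex.IsKInjective.homotopyZero _ hX⟩⟩
  refine ⟨hK, nonempty_isLimit_fan _ fun s => ?_⟩
  let X := Q.objPreimage s.pt
  let e := Q.objObjPreimageIso s.pt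
  choose g hg using fun n => DHA.KInj.Q_map_surjective X (K n) (e.hom ≫ s.proj n)
  let g' : X ⟶ c.pt := Fan.IsLimit.lift hc g
  refine ⟨e.inv ≫ Q.map g', fun n => ?_, fun φ hφ => ?_⟩
  · rw [fan_mk_proj, Category.assoc, ← Q.map_comp, Fan.IsLimit.fac, hg, Iso.inv_hom_id_assoc]
  · obtain ⟨f, hf⟩ := DHA.KInj.Q_map_surjective X c.pt (e.hom ≫ φ)
    rw [← cancel_epi e.hom, Iso.hom_inv_id_assoc, ← hf, ← sub_eq_zero, ← Functor.map_sub]
    refine Q_map_fan_eq_zero_of_homotopy hc _ fun n => ?_
    refine DHA.KInj.homotopy_of_Q_map_eq ?_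
    have := hφ n
    rw [fan_mk_proj] at this
    rw [Q.map_zero, Preadditive.sub_comp, Functor.map_sub, Q.map_comp, hf, Category.assoc, this,
      show g' ≫ c.proj n = g n from Fan.IsLimit.fac _ _ _, hg, sub_self]

variable [(lim : (Discrete ℕ ⥤ A) ⥤ A).PreservesEpimorphisms]

/-- Products of complexes are products in the derived category when countable products are exact. -/
theorem nonempty_isLimit_Q (hc : IsLimit c) :
    Nonempty (IsLimit (Fan.mk (Q.obj c.pt) fun n => Q.map (c.proj n))) := by
  refine nonempty_isLimit_fan _ fun s => ?_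
  let X := Q.objPreimage s.pt
  let e := Q.objObjPreimageIso s.pt
  choose K' g t ht hfac using fun n => left_fac (e.hom ≫ s.proj n)
  have ht' : ∀ n, QuasiIso (t n) := fun n => (isIso_Q_map_iff_quasiIso _ _).1 (ht n)
  let d : Fan K' := Fan.mk (∏ᶜ K') (Pi.π K')
  let hd : IsLimit d := productIsProduct K'
  let T : c.pt ⟶ d.pt := Pi.lift fun n => c.proj n ≫ t n
  have hT : ∀ n, T ≫ d.proj n = c.proj n ≫ t n := fun n => Pi.lift_π _ _
  have : QuasiIso T := quasiIso_of_isLimit c hc d hd t T hT
  have : IsIso (Q.map T) := (isIso_Q_map_iff_quasiIso _ _).2 this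
  refine ⟨e.inv ≫ Q.map (Pi.lift g) ≫ inv (Q.map T), fun n => ?_, fun φ hφ => ?_⟩
  · have h1 : inv (Q.map T) ≫ Q.map (c.proj n) = Q.map (d.proj n) ≫ inv (Q.map (t n)) := by
      rw [IsIso.inv_comp_eq, ← Category.assoc, IsIso.eq_comp_inv, ← Q.map_comp, ← Q.map_comp, hT]
    rw [fan_mk_proj, Category.assoc, Category.assoc, h1, ← Q.map_comp_assoc,
      show Pi.lift g ≫ d.proj n = g n from Pi.lift_π _ _, ← hfac, Iso.inv_hom_id_assoc]
  · rw [← cancel_epi e.hom, Iso.hom_inv_id_assoc, ← cancel_mono (Q.map T), Category.assoc,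
      Category.assoc, IsIso.inv_hom_id, Category.comp_id, ← sub_eq_zero]
    -- a morphism into a product killed by all projections vanishes
    have key : ∀ {d' : CochainComplex A ℤ} (ψ : Q.obj X ⟶ Q.obj d') {L : ℕ → CochainComplex A ℤ}
        (p : ∀ n, d' ⟶ L n), IsLimit (Fan.mk d' p) → (∀ n, ψ ≫ Q.map (p n) = 0) → ψ = 0 := by
      intro d' ψ L p hp hψ
      obtain ⟨X', u, hu, f, rfl⟩ := right_fac ψ
      have hf : ∀ n, Q.map (f ≫ p n) = 0 := fun n => by
        have := hψ n
        rw [Category.assoc, ← Q.map_comp, ← cancel_epi (Q.map u)] at this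
        simpa using this
      have h' : ∀ n, ∃ (L' : CochainComplex A ℤ) (w : L n ⟶ L') (_ : QuasiIso w),
          Nonempty (Homotopy ((f ≫ p n) ≫ w) 0) := fun n => by
        have h' : Qh.map ((HomotopyCategory.quotient A _).map (f ≫ p n)) =
            Qh.map ((HomotopyCategory.quotient A _).map 0) :=
          (hf n).trans (Q.map_zero _ _).symm
        rw [MorphismProperty.map_eq_iff_postcomp Qh
          (HomotopyCategory.quasiIso A (ComplexShape.up ℤ))] at h'
        obtain ⟨L', w, hw, hh⟩ := h'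
        obtain ⟨L', rfl⟩ := HomotopyCategory.quotient_obj_surjective L'
        obtain ⟨w, rfl⟩ := (HomotopyCategory.quotient _ _).map_surjective w
        rw [HomotopyCategory.quotient_map_mem_quasiIso_iff,
          HomologicalComplex.mem_quasiIso_iff] at hw
        rw [← Functor.map_comp, ← Functor.map_comp, zero_comp] at hh
        exact ⟨L', w, hw, ⟨HomotopyCategory.homotopyOfEq _ _ hh⟩⟩
      choose L' w hw hh using h'
      let W : d' ⟶ ∏ᶜ L' := Pi.lift fun n => p n ≫ w n
      have : QuasiIso W := quasiIso_of_isLimit (Fan.mk d' p) hp (Fan.mk (∏ᶜ L') (Pi.π L'))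
        (productIsProduct L') w W fun n => Pi.lift_π _ _
      have : IsIso (Q.map W) := (isIso_Q_map_iff_quasiIso _ _).2 this
      have h0 : Q.map (f ≫ W) = 0 := Q_map_fan_eq_zero_of_homotopy (productIsProduct L') _ fun n => by
        simpa [W] using hh n
      rw [Q.map_comp] at h0
      rw [(cancel_mono (Q.map W)).1 (h0.trans zero_comp.symm), comp_zero]
    refine key _ d.proj hd fun n => ?_
    have := hφ n
    rw [fan_mk_proj] at this
    rw [Preadditive.sub_comp, Category.assoc, Category.assoc, ← Q.map_comp, hT, Q.map_comp,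
      reassoc_of% this, ← Q.map_comp, show Pi.lift g ≫ d.proj n = g n from Pi.lift_π _ _,
      ← Category.assoc, hfac, Category.assoc, IsIso.inv_hom_id, Category.comp_id, sub_self]

end Groth.Agent.CohDerLib.RFLim
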