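import Groth.Prelude.Def_DCoh2
import Groth.Agent.DTrunc.RightDerived
import Groth.Agent.CohDerLib.RFLim.QProd
import Mathlib.Algebra.Homology.HomotopyCategory.Triangulated
import Mathlib.CategoryTheory.Triangulated.Orthogonal

/-!
# A total right derived functor commutes with derived limits
-/

universe w w' v u v' u'

open CategoryTheory CategoryTheory.Limits CategoryTheory.Pretriangulated DerivedCategory

namespace Groth.Agent.CohDerLib.RFLim

variable {A : Type u} [Category.{v} A] [Abelian A] [IsGrothendieckAbelian.{v} A]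
  [HasDerivedCategory.{w} A] {B : Type u'} [Category.{v'} B] [Abelian B] [HasDerivedCategory.{w'} B]
  (F : A ⥤ B) [F.Additive]
  [(F.mapHomotopyCategory (ComplexShape.up ℤ) ⋙ Qh).HasRightDerivedFunctor
    (HomotopyCategory.quasiIso A (ComplexShape.up ℤ))]

/-- the total right derived functor -/
noncomputable abbrev RF : DerivedCategory A ⥤ DerivedCategory B :=
  (F.mapHomotopyCategory (ComplexShape.up ℤ) ⋙ Qh).totalRightDerived Qh
    (HomotopyCategory.quasiIso A (ComplexShape.up ℤ))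

/-- the functor on complexes -/
noncomputable abbrev FQ : CochainComplex A ℤ ⥤ DerivedCategory B :=
  F.mapHomologicalComplex (ComplexShape.up ℤ) ⋙ Q

/-- `q ⋙ F` in terms of complexes -/
noncomputable def khIso :
    HomotopyCategory.quotient A (ComplexShape.up ℤ) ⋙ F.mapHomotopyCategory (ComplexShape.up ℤ) ⋙ Qh ≅
      FQ F :=
  (Functor.associator _ _ _).symm ≪≫
    Functor.isoWhiskerRight (F.mapHomotopyCategoryFactors (ComplexShape.up ℤ)) Qh ≪≫
    Functor.associator _ _ _ ≪≫ Functor.isoWhiskerLeft _ (quotientCompQhIso B)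

/-- the unit -/
noncomputable def toRF : FQ F ⟶ Q ⋙ RF F :=
  (khIso F).inv ≫
    Functor.whiskerLeft _ ((F.mapHomotopyCategory (ComplexShape.up ℤ) ⋙ Qh).totalRightDerivedUnit Qh
      (HomotopyCategory.quasiIso A (ComplexShape.up ℤ))) ≫
    (Functor.associator _ _ _).inv ≫
    Functor.whiskerRight (quotientCompQhIso A).hom (RF F)

theorem isIso_toRF (I : CochainComplex A ℤ) [I.IsKInjective] : IsIso ((toRF F).app I) := by
  let G := F.mapHomotopyCategory (ComplexShape.up ℤ) ⋙ Qh (C := B)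
  let W := HomotopyCategory.quasiIso A (ComplexShape.up ℤ)
  let u := G.totalRightDerivedUnit Qh W
  let q := HomotopyCategory.quotient A (ComplexShape.up ℤ)
  have : IsIso (u.app (q.obj I)) :=
    DTrunc.RightDerived.HasEnough.isIso_app (W := W) (RF F) u (DTrunc.RightDerived.hasEnough G)
      (DTrunc.RightDerived.isGood_quotient G I)
  have e : (toRF F).app I = (khIso F).inv.app I ≫ u.app (q.obj I) ≫
      (RF F).map ((quotientCompQhIso A).hom.app I) := by
    simp [toRF, u, W, q, G]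
  rw [e]
  infer_instance

omit [F.Additive] [(F.mapHomotopyCategory (ComplexShape.up ℤ) ⋙ Qh).HasRightDerivedFunctor
    (HomotopyCategory.quasiIso A (ComplexShape.up ℤ))] in
lemma exists_rep (X : DerivedCategory A) :
    ∃ (J : CochainComplex A ℤ) (_ : J.IsKInjective), Nonempty (Q.obj J ≅ X) :=
  ⟨(DHA.KInj.resolution A).obj (Q.objPreimage X), inferInstance,
    ⟨(asIso (Q.map ((DHA.KInj.resolutionι A).app (Q.objPreimage X)))).symm ≪≫
      Q.objObjPreimageIso X⟩⟩

lemma map_Q_map {I J : CochainComplex A ℤ} [I.IsKInjective] (f : I ⟶ J) :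
    (RF F).map (Q.map f) =
      @inv _ _ _ _ ((toRF F).app I) (isIso_toRF F I) ≫ Q.map ((F.mapHomologicalComplex _).map f) ≫
        (toRF F).app J := by
  have := isIso_toRF F I
  rw [IsIso.eq_inv_comp]
  exact ((toRF F).naturality f).symm

instance additive_RF : (RF F).Additive where
  map_add {X Y φ ψ} := by
    obtain ⟨I, hI, ⟨e⟩⟩ := exists_rep X
    obtain ⟨J, hJ, ⟨e'⟩⟩ := exists_rep Y
    obtain ⟨f, hf⟩ := DHA.KInj.Q_map_surjective I J (e.hom ≫ φ ≫ e'.inv)
    obtain ⟨g, hg⟩ := DHA.KInj.Q_map_surjective I J (e.hom ≫ ψ ≫ e'.inv)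
    have h : (RF F).map (Q.map (f + g)) = (RF F).map (Q.map f) + (RF F).map (Q.map g) := by
      rw [map_Q_map, map_Q_map, map_Q_map, Functor.map_add, Functor.map_add, Preadditive.add_comp,
        Preadditive.comp_add]
    rw [Q.map_add, hf, hg, ← Preadditive.comp_add, ← Preadditive.add_comp] at h
    simp only [Functor.map_comp] at h
    rw [← cancel_epi ((RF F).map e.hom), ← cancel_mono ((RF F).map e'.inv)]
    simpa [Preadditive.comp_add, Preadditive.add_comp] using h

/-- the image of a distinguished triangle is distinguished, for some connecting map -/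
theorem distinguished_RF (T : Triangle (DerivedCategory A)) (hT : T ∈ distinguishedTriangles) :
    ∃ δ, Triangle.mk ((RF F).map T.mor₁) ((RF F).map T.mor₂) δ ∈ distinguishedTriangles := by
  obtain ⟨K₁, K₂, g, ⟨e₀⟩⟩ := (DerivedCategory.mem_distTriang_iff T).1 hT
  let R := DHA.KInj.resolution A
  let r := R.map g
  let ι := DHA.KInj.resolutionι A
  have hι : ∀ K, IsIso (Q.map (ι.app K)) := fun K =>
    (isIso_Q_map_iff_quasiIso _ _).2 inferInstance
  let e : T ≅ Q.mapTriangle.obj (CochainComplex.mappingCone.triangle r) :=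
    e₀ ≪≫ isoTriangleOfIso₁₂ _ _ (mappingCone_triangle_distinguished _)
      (mappingCone_triangle_distinguished _) (@asIso _ _ _ _ _ (hι K₁)) (@asIso _ _ _ _ _ (hι K₂))
      ((Q.map_comp _ _).symm.trans ((congrArg Q.map (ι.naturality g)).trans (Q.map_comp _ _)))
  have hC : (CochainComplex.mappingCone r).IsKInjective := by
    rw [CochainComplex.isKInjective_iff_rightOrthogonal]
    exact ObjectProperty.ext_of_isTriangulatedClosed₃ _
      (CochainComplex.mappingCone.triangleh r)
      (HomotopyCategory.mappingCone_triangleh_distinguished r)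
      (CochainComplex.IsKInjective.rightOrthogonal (R.obj K₁))
      (CochainComplex.IsKInjective.rightOrthogonal (R.obj K₂))
  let a₁ := @asIso _ _ _ _ _ (isIso_toRF F (R.obj K₁))
  let a₂ := @asIso _ _ _ _ _ (isIso_toRF F (R.obj K₂))
  let a₃ := @asIso _ _ _ _ _ (isIso_toRF F (CochainComplex.mappingCone r))
  let eC := Q.mapIso (CochainComplex.mappingCone.mapHomologicalComplexIso r F)
  let T' := Q.mapTriangle.obj (CochainComplex.mappingCone.triangle
    ((F.mapHomologicalComplex (ComplexShape.up ℤ)).map r))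
  have hT' : T' ∈ distinguishedTriangles := mappingCone_triangle_distinguished _
  have he : Q.map ((F.mapHomologicalComplex _).map (CochainComplex.mappingCone.inr r)) ≫ eC.hom =
      T'.mor₂ :=
    (Q.map_comp _ _).symm.trans (congrArg Q.map (CochainComplex.mappingCone.map_inr r F))
  let e₁ := (RF F).mapIso (Triangle.π₁.mapIso e) ≪≫ a₁.symm
  let e₂ := (RF F).mapIso (Triangle.π₂.mapIso e) ≪≫ a₂.symm
  let e₃ := (RF F).mapIso (Triangle.π₃.mapIso e) ≪≫ a₃.symm ≪≫ eC
  refine ⟨e₃.hom ≫ T'.mor₃ ≫ e₁.inv⟦(1 : ℤ)⟧', isomorphic_distinguished _ hT' _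
    (Triangle.isoMk _ _ e₁ e₂ e₃ ?_ ?_ ?_)⟩
  · have n : a₁.hom ≫ (RF F).map (Q.map r) = Q.map ((F.mapHomologicalComplex _).map r) ≫ a₂.hom :=
      ((toRF F).naturality r).symm
    have h : (RF F).map T.mor₁ ≫ (RF F).map e.hom.hom₂ = (RF F).map e.hom.hom₁ ≫ (RF F).map (Q.map r) := by
      rw [← Functor.map_comp, e.hom.comm₁, Functor.map_comp]
      rfl
    change (RF F).map T.mor₁ ≫ (RF F).map e.hom.hom₂ ≫ a₂.inv =
      ((RF F).map e.hom.hom₁ ≫ a₁.inv) ≫ Q.map ((F.mapHomologicalComplex _).map r)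
    have n' : (RF F).map (Q.map r) ≫ a₂.inv = a₁.inv ≫ Q.map ((F.mapHomologicalComplex _).map r) := by
      rw [Iso.eq_inv_comp, ← Category.assoc, Iso.comp_inv_eq, n]
    exact (Category.assoc _ _ _).symm.trans ((congrArg (· ≫ a₂.inv) h).trans
      ((Category.assoc _ _ _).trans ((congrArg (_ ≫ ·) n').trans (Category.assoc _ _ _).symm)))
  · have n : a₂.hom ≫ (RF F).map (Q.map (CochainComplex.mappingCone.inr r)) =
        Q.map ((F.mapHomologicalComplex _).map (CochainComplex.mappingCone.inr r)) ≫ a₃.hom :=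
      ((toRF F).naturality _).symm
    have h : (RF F).map T.mor₂ ≫ (RF F).map e.hom.hom₃ =
        (RF F).map e.hom.hom₂ ≫ (RF F).map (Q.map (CochainComplex.mappingCone.inr r)) := by
      rw [← Functor.map_comp, e.hom.comm₂, Functor.map_comp]
      rfl
    change (RF F).map T.mor₂ ≫ (RF F).map e.hom.hom₃ ≫ a₃.inv ≫ eC.hom =
      ((RF F).map e.hom.hom₂ ≫ a₂.inv) ≫ T'.mor₂
    have n' : (RF F).map (Q.map (CochainComplex.mappingCone.inr r)) ≫ a₃.inv =
        a₂.inv ≫ Q.map ((F.mapHomologicalComplex _).map (CochainComplex.mappingCone.inr r)) := by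
      rw [Iso.eq_inv_comp, ← Category.assoc, Iso.comp_inv_eq, n]
    refine (Category.assoc _ _ _).symm.trans ((congrArg (· ≫ a₃.inv ≫ eC.hom) h).trans ?_)
    refine (Category.assoc _ _ _).trans (Eq.trans ?_ (Category.assoc _ _ _).symm)
    refine congrArg (_ ≫ ·) ((Category.assoc _ _ _).symm.trans ((congrArg (· ≫ eC.hom) n').trans ?_))
    exact (Category.assoc _ _ _).trans (congrArg (a₂.inv ≫ ·) he)
  · change (e₃.hom ≫ T'.mor₃ ≫ e₁.inv⟦(1 : ℤ)⟧') ≫ e₁.hom⟦(1 : ℤ)⟧' = e₃.hom ≫ T'.mor₃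
    refine (Category.assoc _ _ _).trans (congrArg (e₃.hom ≫ ·) ((Category.assoc _ _ _).trans ?_))
    exact (congrArg (T'.mor₃ ≫ ·) (((shiftFunctor (DerivedCategory B) (1 : ℤ)).map_comp _ _).symm.trans
      ((congrArg (shiftFunctor (DerivedCategory B) (1 : ℤ)).map e₁.inv_hom_id).trans
        ((shiftFunctor (DerivedCategory B) (1 : ℤ)).map_id _)))).trans (Category.comp_id _)

variable [HasProductsOfShape ℕ B] [(lim : (Discrete ℕ ⥤ B) ⥤ B).PreservesEpimorphisms]
  [PreservesLimitsOfShape (Discrete ℕ) F]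

theorem preservesProduct (K : ℕ → DerivedCategory A) :
    PreservesLimit (Discrete.functor K) (RF F) := by
  choose I hI e using fun n => exists_rep (K n)
  let c : Fan I := Fan.mk (∏ᶜ I) (Pi.π I)
  have hc : IsLimit c := productIsProduct I
  obtain ⟨hP, ⟨hQ⟩⟩ := nonempty_isLimit_Q_of_isKInjective hc
  let d : Fan (fun n => (F.mapHomologicalComplex (ComplexShape.up ℤ)).obj (I n)) :=
    Fan.mk ((F.mapHomologicalComplex _).obj c.pt) fun n => (F.mapHomologicalComplex _).map (c.proj n)
  have hd : IsLimit d := HomologicalComplex.isLimitOfEval _ _ fun p =>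
    (Fan.isLimitMapConeEquiv (HomologicalComplex.eval B (ComplexShape.up ℤ) p) _ d).symm
      (isLimitFanMkObjOfIsLimit F _ _ (evalIsLimit c hc p))
  obtain ⟨hQd⟩ := nonempty_isLimit_Q hd
  have : ∀ n, IsIso ((toRF F).app (I n)) := fun n => isIso_toRF F (I n)
  have hPiso := isIso_toRF F c.pt
  let eD : Discrete.functor (fun n => Q.obj ((F.mapHomologicalComplex (ComplexShape.up ℤ)).obj (I n))) ≅
      Discrete.functor (fun n => (RF F).obj (Q.obj (I n))) :=
    Discrete.natIso fun n => asIso ((toRF F).app (I n.as))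
  have hlim : IsLimit (Fan.mk ((RF F).obj (Q.obj c.pt)) fun n => (RF F).map (Q.map (c.proj n))) :=
    IsLimit.ofIsoLimit ((IsLimit.postcomposeHomEquiv eD _).symm hQd)
      (Cone.ext (asIso ((toRF F).app c.pt)) fun j => (toRF F).naturality (c.proj j.as))
  have : PreservesLimit (Discrete.functor fun n => Q.obj (I n)) (RF F) :=
    preservesLimit_of_preserves_limit_cone hQ
      ((Fan.isLimitMapConeEquiv (RF F) _ _).symm hlim)
  exact preservesLimit_of_iso_diagram (RF F)
    (Discrete.natIso (fun n => (e n.as).some) : Discrete.functor (fun n => Q.obj (I n)) ≅ Discrete.functor K)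

theorem isRlim_RF (K : ℕ → DerivedCategory A) (t : ∀ n, K (n + 1) ⟶ K n) (L : DerivedCategory A)
    [HasProduct K] [HasProduct fun n => (RF F).obj (K n)] (hL : DCoh.IsRlim K t L) :
    DCoh.IsRlim (fun n => (RF F).obj (K n)) (fun n => (RF F).map (t n)) ((RF F).obj L) := by
  obtain ⟨a, c, hT⟩ := hL
  obtain ⟨δ, hδ⟩ := distinguished_RF F _ hT
  have := preservesProduct F K
  let R := RF F
  let φ := PreservesProduct.iso R K
  have hπ : ∀ n, φ.hom ≫ Pi.π (fun n => R.obj (K n)) n = R.map (Pi.π K n) := fun n => by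
    rw [PreservesProduct.iso_hom]
    exact piComparison_comp_π R K n
  refine ⟨R.map a ≫ φ.hom, φ.inv ≫ δ, isomorphic_distinguished _ hδ _ ?_⟩
  refine Triangle.isoMk _ _ (Iso.refl _) φ.symm φ.symm ?_ ?_ ?_
  · change (R.map a ≫ φ.hom) ≫ φ.inv = 𝟙 _ ≫ R.map a
    simp
  · change Pi.lift (fun n => Pi.π (fun n => R.obj (K n)) n - Pi.π (fun n => R.obj (K n)) (n + 1) ≫ R.map (t n)) ≫
      φ.inv = φ.inv ≫ R.map (Pi.lift fun n => Pi.π K n - Pi.π K (n + 1) ≫ t n)
    rw [Iso.eq_inv_comp, ← Category.assoc, Iso.comp_inv_eq]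
    refine Pi.hom_ext _ _ fun n => ?_
    rw [Category.assoc, Category.assoc, Pi.lift_π, hπ, ← R.map_comp, Pi.lift_π, R.map_sub, R.map_comp,
      Preadditive.comp_sub, ← Category.assoc, hπ, hπ]
  · change (φ.inv ≫ δ) ≫ (𝟙 (R.obj L))⟦(1 : ℤ)⟧' = φ.inv ≫ δ
    exact (congrArg ((φ.inv ≫ δ) ≫ ·) (CategoryTheory.Functor.map_id _ _)).trans (Category.comp_id _)

end Groth.Agent.CohDerLib.RFLim
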