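import Groth.Agent.CohDerLib.RFLim.QisProd

/-!
# Homology commutes with countable products
-/

universe v u

open CategoryTheory CategoryTheory.Limits

namespace Groth.Agent.CohDerLib.RFLim

variable {B : Type u} [Category.{v} B] [Abelian B] [HasProductsOfShape ℕ B]
  [(lim : (Discrete ℕ ⥤ B) ⥤ B).PreservesEpimorphisms] {K : ℕ → CochainComplex B ℤ}

theorem nonempty_isLimit_homology (c : Fan K) (hc : IsLimit c) (j : ℤ) :
    Nonempty (IsLimit (Fan.mk (c.pt.homology j)
      fun n => HomologicalComplex.homologyMap (c.proj n) j)) := by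
  let h : c.pt.homology j ⟶ ∏ᶜ fun n => (K n).homology j :=
    Pi.lift fun n => HomologicalComplex.homologyMap (c.proj n) j
  obtain ⟨i, rfl⟩ : ∃ i, j = i + 1 := ⟨j - 1, by omega⟩
  have hh : ∀ n, h ≫ Pi.π _ n = HomologicalComplex.homologyMap (c.proj n) (i + 1) :=
    fun n => Pi.lift_π _ _
  have : Mono h := Preadditive.mono_of_cancel_zero _ fun {T} x hx => by
    obtain ⟨T₁, p, hp, z, hz, hzx⟩ :=
      c.pt.eq_liftCycles_homologyπ_up_to_refinements x (i + 1 + 1) (by simp)
    have hn : ∀ n, ∃ (T' : B) (π : T' ⟶ T₁) (_ : Epi π) (w : T' ⟶ (K n).X i),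
        π ≫ z ≫ (c.proj n).f (i + 1) = w ≫ (K n).d i (i + 1) := fun n => by
      refine ((K n).liftCycles_comp_homologyπ_eq_zero_iff_up_to_refinements i (i + 1) (i + 1 + 1)
        (by simp) (by simp) _ (by rw [Category.assoc, (c.proj n).comm, reassoc_of% hz, zero_comp])).1 ?_
      have h1 := congrArg (fun φ => p ≫ φ ≫ Pi.π _ n) hx
      simp only [Category.assoc, hh, zero_comp, comp_zero] at h1
      rw [reassoc_of% hzx, HomologicalComplex.homologyπ_naturality,
        HomologicalComplex.liftCycles_comp_cyclesMap_assoc] at h1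
      exact h1
    choose T' π hπ w hw using hn
    obtain ⟨T'', q, hq, r, hr⟩ := exists_common_refinement π
    rw [← cancel_epi p, comp_zero, hzx,
      c.pt.liftCycles_comp_homologyπ_eq_zero_iff_up_to_refinements i (i + 1) (i + 1 + 1)
        (by simp) (by simp)]
    refine ⟨T'', q, hq, Fan.IsLimit.lift (evalIsLimit c hc i) fun n => r n ≫ w n,
      Fan.IsLimit.hom_ext (evalIsLimit c hc (i + 1)) _ _ fun n => ?_⟩
    simp only [fan_mk_proj, Category.assoc]
    rw [← (c.proj n).comm, ← Category.assoc (Fan.IsLimit.lift _ _),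
      show (Fan.IsLimit.lift (evalIsLimit c hc i) fun n => r n ≫ w n) ≫ (c.proj n).f i =
        r n ≫ w n from Fan.IsLimit.fac _ _ _, Category.assoc, ← hw, ← hr n, Category.assoc]
  have : Epi h := by
    rw [epi_iff_surjective_up_to_refinements]
    intro T y
    have hn : ∀ n, ∃ (T' : B) (π : T' ⟶ T) (_ : Epi π) (z : T' ⟶ (K n).X (i + 1))
        (hz : z ≫ (K n).d (i + 1) (i + 1 + 1) = 0),
        π ≫ y ≫ Pi.π _ n = (K n).liftCycles z (i + 1 + 1) (by simp) hz ≫ (K n).homologyπ (i + 1) :=
      fun n => (K n).eq_liftCycles_homologyπ_up_to_refinements _ (i + 1 + 1) (by simp)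
    choose T' π hπ z hz hzy using hn
    obtain ⟨T'', q, hq, r, hr⟩ := exists_common_refinement π
    let z' := Fan.IsLimit.lift (evalIsLimit c hc (i + 1)) fun n => r n ≫ z n
    have hz' : ∀ n, z' ≫ (c.proj n).f (i + 1) = r n ≫ z n := fun n => Fan.IsLimit.fac _ _ _
    have hzd : z' ≫ c.pt.d (i + 1) (i + 1 + 1) = 0 :=
      Fan.IsLimit.hom_ext (evalIsLimit c hc (i + 1 + 1)) _ _ fun n => by
        simp only [fan_mk_proj, Category.assoc, zero_comp]
        rw [← (c.proj n).comm, reassoc_of% (hz' n), hz, comp_zero]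
    refine ⟨T'', q, hq, c.pt.liftCycles z' (i + 1 + 1) (by simp) hzd ≫ c.pt.homologyπ (i + 1),
      Pi.hom_ext _ _ fun n => ?_⟩
    simp only [Category.assoc, hh, HomologicalComplex.homologyπ_naturality,
      HomologicalComplex.liftCycles_comp_cyclesMap_assoc, hz']
    rw [← hr n, Category.assoc, hzy, ← Category.assoc, HomologicalComplex.comp_liftCycles]
  have : IsIso h := isIso_of_mono_of_epi h
  exact ⟨IsLimit.ofIsoLimit (productIsProduct _) (Cone.ext (asIso h) fun n => (hh n.as).symm).symm⟩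

end Groth.Agent.CohDerLib.RFLim
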