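import Groth.Agent.CohDerLib.RFLim.QProd
import Groth.Agent.CohDerLib.RFLim.HomologyProd
import Groth.Agent.DHA.Horseshoe
import Mathlib.Algebra.Homology.DerivedCategory.HomologySequence
import Mathlib.Algebra.Homology.HomotopyCategory.Triangulated
import Mathlib.CategoryTheory.Triangulated.Orthogonal

/-!
# K-injective resolutions when countable products are exact
-/

set_option backward.isDefEq.respectTransparency.types false

universe w v u

open CategoryTheory CategoryTheory.Limits CategoryTheory.Pretriangulated DerivedCategory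

namespace Groth.Agent.CohDerLib.RFLim

variable {A : Type u} [Category.{v} A] [Abelian A] [HasProductsOfShape ℕ A]

section seq

variable {H : ℕ → A} (t : ∀ n, H (n + 1) ⟶ H n) {H₀ : A} (a : ∀ n, H₀ ⟶ H n)
  (ha : ∀ n, a (n + 1) ≫ t n = a n) (n₀ : ℕ) (hiso : ∀ n, n₀ ≤ n → IsIso (a n))

include ha hiso in
lemma isIso_t (n : ℕ) (hn : n₀ ≤ n) : IsIso (t n) := by
  have := hiso n hn
  have := hiso (n + 1) (by omega)
  exact IsIso.of_isIso_fac_left (ha n)

/-- identity minus shift -/
noncomputable def oneSub : ∏ᶜ H ⟶ ∏ᶜ H := Pi.lift fun n => Pi.π H n - Pi.π H (n + 1) ≫ t n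

include ha hiso in
lemma exists_section : ∃ g : ∏ᶜ H ⟶ ∏ᶜ H, g ≫ oneSub t = 𝟙 _ := by
  -- descending from `n₀`
  have down : ∀ (k : ℕ) (n : ℕ), n + k = n₀ → ∃ x : ∀ m, n ≤ m → (∏ᶜ H ⟶ H m),
      ∀ m (hm : n ≤ m), x m hm - x (m + 1) (by omega) ≫ t m = Pi.π H m := by
    intro k
    induction k with
    | zero =>
      intro n hn
      obtain rfl : n = n₀ := by omega
      refine ⟨fun m hm => Nat.leRecOn (C := fun m => (∏ᶜ H ⟶ H m)) hm
        (fun {m} x => if h : n ≤ m then
          have := isIso_t t a ha n hiso m h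
          (x - Pi.π H m) ≫ inv (t m) else 0) 0, fun m hm => ?_⟩
      simp only [Nat.leRecOn_succ hm, dif_pos hm]
      simp
    | succ k ih =>
      intro n hn
      obtain ⟨x, hx⟩ := ih (n + 1) (by omega)
      refine ⟨fun m hm => if h : n + 1 ≤ m then x m h else
        eqToHom rfl ≫ (Pi.π H m + x (m + 1) (by omega) ≫ t m), fun m hm => ?_⟩
      by_cases h : n + 1 ≤ m
      · simp only [dif_pos h, dif_pos (show n + 1 ≤ m + 1 by omega)]
        exact hx m h
      · simp only [dif_neg h, dif_pos (show n + 1 ≤ m + 1 by omega)]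
        simp
  obtain ⟨x, hx⟩ := down n₀ 0 (by omega)
  refine ⟨Pi.lift fun m => x m (Nat.zero_le _), Pi.hom_ext _ _ fun m => ?_⟩
  simp only [oneSub, Category.assoc, Pi.lift_π, Preadditive.comp_sub, Pi.lift_π_assoc,
    Category.id_comp]
  exact hx m (Nat.zero_le _)

include ha hiso in
lemma exists_fac {T : A} (x : T ⟶ ∏ᶜ H) (hx : x ≫ oneSub t = 0) :
    ∃ g : T ⟶ H₀, g ≫ Pi.lift a = x := by
  have := hiso n₀ le_rfl
  have hx' : ∀ n, x ≫ Pi.π H (n + 1) ≫ t n = x ≫ Pi.π H n := fun n => by
    have := congrArg (· ≫ Pi.π H n) hx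
    simp only [oneSub, Category.assoc, Pi.lift_π, Preadditive.comp_sub, zero_comp, sub_eq_zero] at this
    exact this.symm
  let g := x ≫ Pi.π H n₀ ≫ inv (a n₀)
  have up : ∀ k, g ≫ a (n₀ + k) = x ≫ Pi.π H (n₀ + k) := by
    intro k
    induction k with
    | zero => simp [g]
    | succ k ih =>
      have := isIso_t t a ha n₀ hiso (n₀ + k) (by omega)
      rw [← cancel_mono (t (n₀ + k))]
      simp only [Category.assoc]
      exact (congrArg (g ≫ ·) (ha (n₀ + k))).trans (ih.trans (hx' (n₀ + k)).symm)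
  have down : ∀ k n, n + k = n₀ → g ≫ a n = x ≫ Pi.π H n := by
    intro k
    induction k with
    | zero =>
      intro n hn
      obtain rfl : n = n₀ := by omega
      exact up 0
    | succ k ih => intro n hn; rw [← ha n, ← Category.assoc, ih (n + 1) (by omega), Category.assoc, hx']
  refine ⟨g, Pi.hom_ext _ _ fun n => ?_⟩
  rw [Category.assoc, Pi.lift_π]
  rcases Nat.le_total n₀ n with h | h
  · obtain ⟨k, rfl⟩ := Nat.exists_eq_add_of_le h
    exact up k
  · exact down (n₀ - n) n (by omega)

include hiso in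
lemma mono_lift : Mono (Pi.lift a) := by
  have := hiso n₀ le_rfl
  exact mono_of_mono_fac (Pi.lift_π a n₀)

end seq

variable [EnoughInjectives A] [(lim : (Discrete ℕ ⥤ A) ⥤ A).PreservesEpimorphisms]
  [HasDerivedCategory.{w} A]

theorem exists_kInjective_resolution (K : CochainComplex A ℤ) :
    ∃ (I : CochainComplex A ℤ) (f : K ⟶ I), I.IsKInjective ∧ QuasiIso f := by
  choose J α hJ hJinj _ hα using fun n : ℕ => DHA.Horseshoe.exists_injRes (K.truncGE (-(n : ℤ))) (-(n : ℤ))
  have hJk : ∀ n, (J n).IsKInjective := fun n =>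
    have := hJ n
    have := hJinj n
    CochainComplex.isKInjective_of_injective (J n) (-(n : ℤ))
  have hQα : ∀ n, IsIso (Q.map (α n)) := fun n => (isIso_Q_map_iff_quasiIso _ _).2 (hα n)
  let f : ∀ n, K ⟶ J n := fun n => K.πTruncGE (-(n : ℤ)) ≫ α n
  -- transition maps
  have htr : ∀ n : ℕ, ∃ p : J (n + 1) ⟶ J n, Q.map (f (n + 1) ≫ p) = Q.map (f n) := fun n => by
    have : (K.truncGE (-(n : ℤ))).IsStrictlyGE (-((n + 1 : ℕ) : ℤ)) :=
      CochainComplex.isStrictlyGE_of_ge _ _ (-(n : ℤ)) (by omega)
    let b : K.truncGE (-((n + 1 : ℕ) : ℤ)) ⟶ K.truncGE (-(n : ℤ)) :=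
      CochainComplex.truncGEMap (K.πTruncGE (-(n : ℤ))) (-((n + 1 : ℕ) : ℤ)) ≫
        inv ((K.truncGE (-(n : ℤ))).πTruncGE (-((n + 1 : ℕ) : ℤ)))
    have hb : K.πTruncGE _ ≫ b = K.πTruncGE (-(n : ℤ)) := by
      simp only [b]
      rw [CochainComplex.πTruncGE_naturality_assoc, IsIso.hom_inv_id, Category.comp_id]
    obtain ⟨p, hp⟩ := DHA.KInj.Q_map_surjective (J (n + 1)) (J n)
      (inv (Q.map (α (n + 1))) ≫ Q.map b ≫ Q.map (α n))
    refine ⟨p, ?_⟩
    simp only [f, Q.map_comp, hp, Category.assoc, IsIso.hom_inv_id_assoc]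
    rw [← Q.map_comp_assoc, hb]
  choose p hp using htr
  let c : Fan J := Fan.mk (∏ᶜ J) (Pi.π J)
  have hc : IsLimit c := productIsProduct J
  obtain ⟨hP, ⟨hQc⟩⟩ := nonempty_isLimit_Q_of_isKInjective hc
  let s : ∏ᶜ J ⟶ ∏ᶜ J := Pi.lift fun n => Pi.π J n - Pi.π J (n + 1) ≫ p n
  let C := CochainComplex.mappingCone s
  have hC : C.IsKInjective := by
    rw [CochainComplex.isKInjective_iff_rightOrthogonal]
    exact ObjectProperty.ext_of_isTriangulatedClosed₃ _ (CochainComplex.mappingCone.triangleh s)
      (HomotopyCategory.mappingCone_triangleh_distinguished s)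
      (@CochainComplex.IsKInjective.rightOrthogonal _ _ _ _ hP)
      (@CochainComplex.IsKInjective.rightOrthogonal _ _ _ _ hP)
  let T₀ := Q.mapTriangle.obj (CochainComplex.mappingCone.triangle s)
  let T := T₀.invRotate
  have hT : T ∈ distinguishedTriangles :=
    inv_rot_of_distTriang _ (mappingCone_triangle_distinguished _)
  let F : K ⟶ ∏ᶜ J := Pi.lift f
  have hFs : Q.map F ≫ Q.map s = 0 := Fan.IsLimit.hom_ext hQc _ _ fun n => by
    simp only [fan_mk_proj, c, zero_comp, Category.assoc, ← Q.map_comp, s, F, Pi.lift_π,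
      Preadditive.comp_sub, Pi.lift_π_assoc]
    rw [Functor.map_sub, hp, sub_self]
  obtain ⟨g, hg⟩ := Triangle.coyoneda_exact₂ T hT (Q.map F) hFs
  -- the comparison is an isomorphism in homology
  have hiso : ∀ m, IsIso ((homologyFunctor A m).map g) := by
    have key : ∀ m : ℤ, ∃ (_ : Epi ((homologyFunctor A m).map (Q.map s))),
        Mono ((homologyFunctor A m).map (Q.map F)) ∧
        ∀ ⦃T' : A⦄ (x : T' ⟶ (homologyFunctor A m).obj (Q.obj (∏ᶜ J))),
          x ≫ (homologyFunctor A m).map (Q.map s) = 0 →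
            ∃ z, z ≫ (homologyFunctor A m).map (Q.map F) = x := by
      intro m
      obtain ⟨hH⟩ := nonempty_isLimit_homology c hc m
      let a : ∀ n, K.homology m ⟶ (J n).homology m := fun n => HomologicalComplex.homologyMap (f n) m
      let t : ∀ n, (J (n + 1)).homology m ⟶ (J n).homology m :=
        fun n => HomologicalComplex.homologyMap (p n) m
      have ha : ∀ n, a (n + 1) ≫ t n = a n := fun n => by
        simp only [a, t, ← HomologicalComplex.homologyMap_comp]
        have h1 := congrArg (homologyFunctor A m).map (hp n)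
        rw [← cancel_mono ((homologyFunctorFactors A m).hom.app (J n)),
          homologyFunctorFactors_hom_naturality, homologyFunctorFactors_hom_naturality] at h1
        exact (cancel_epi ((homologyFunctorFactors A m).hom.app K)).1 h1
      have hn : ∀ n, (-m).toNat ≤ n → IsIso (a n) := fun n hn => by
        have : QuasiIsoAt (K.πTruncGE (-(n : ℤ))) m :=
          CochainComplex.quasiIsoAt_πTruncGE _ _ _ (by omega)
        have := hα n
        simp only [a, f, HomologicalComplex.homologyMap_comp]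
        infer_instance
      let e : (∏ᶜ J).homology m ≅ ∏ᶜ fun n => (J n).homology m :=
        IsLimit.conePointUniqueUpToIso hH (productIsProduct _)
      have he : ∀ n, e.hom ≫ Pi.π _ n = HomologicalComplex.homologyMap (Pi.π J n) m :=
        fun n => IsLimit.conePointUniqueUpToIso_hom_comp hH (productIsProduct _) (⟨n⟩ : Discrete ℕ)
      let E := (homologyFunctorFactors A m).app (∏ᶜ J) ≪≫ e
      have eF' : HomologicalComplex.homologyMap F m ≫ e.hom = Pi.lift a := by
        refine Pi.hom_ext _ _ fun n => ?_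
        rw [Category.assoc, he, ← HomologicalComplex.homologyMap_comp, Pi.lift_π]
        simp [F, a]
      have es' : HomologicalComplex.homologyMap s m ≫ e.hom = e.hom ≫ oneSub t := by
        refine Pi.hom_ext _ _ fun n => ?_
        rw [Category.assoc, Category.assoc, he, oneSub, Pi.lift_π, Preadditive.comp_sub, he,
          reassoc_of% (he (n + 1)), ← HomologicalComplex.homologyMap_comp,
          ← HomologicalComplex.homologyMap_comp, ← HomologicalComplex.homologyMap_sub]
        simp [s]
      have eF : (homologyFunctor A m).map (Q.map F) ≫ E.hom =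
          (homologyFunctorFactors A m).hom.app K ≫ Pi.lift a :=
        (homologyFunctorFactors_hom_naturality_assoc F m e.hom).trans (congrArg (_ ≫ ·) eF')
      have es : (homologyFunctor A m).map (Q.map s) ≫ E.hom = E.hom ≫ oneSub t :=
        (homologyFunctorFactors_hom_naturality_assoc s m e.hom).trans
          ((congrArg (_ ≫ ·) es').trans (Category.assoc _ _ _).symm)
      obtain ⟨σ, hσ⟩ := exists_section t a ha _ hn
      have hml := mono_lift a _ hn
      refine ⟨?_, ?_, fun T' x hx => ?_⟩
      · refine @SplitEpi.epi _ _ _ _ _ ⟨E.hom ≫ σ ≫ E.inv, ?_⟩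
        rw [← cancel_mono E.hom, Category.assoc, Category.assoc, Category.assoc, es,
          Iso.inv_hom_id_assoc, hσ, Category.comp_id, Category.id_comp]
      · have : Mono ((homologyFunctor A m).map (Q.map F) ≫ E.hom) :=
          eF ▸ @mono_comp _ _ _ _ _ ((homologyFunctorFactors A m).app K).hom inferInstance (Pi.lift a) hml
        exact mono_of_mono _ E.hom
      · obtain ⟨z, hz⟩ := exists_fac t a ha _ hn (x ≫ E.hom)
          (by rw [Category.assoc, ← es, reassoc_of% hx, zero_comp])
        refine ⟨z ≫ ((homologyFunctorFactors A m).app K).inv, ?_⟩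
        rw [← cancel_mono E.hom, Category.assoc, Category.assoc, eF]
        exact (congrArg (z ≫ ·) (((homologyFunctorFactors A m).app K).inv_hom_id_assoc _)).trans hz
    intro m
    obtain ⟨-, hmF, hfac⟩ := key m
    have hδ : HomologySequence.δ T (m - 1) m (by omega) = 0 :=
      (HomologySequence.epi_homologyMap_mor₂_iff T hT (m - 1) m (by omega)).1 (key (m - 1)).1
    have hm1 := (HomologySequence.mono_homologyMap_mor₁_iff T hT (m - 1) m (by omega)).2 hδ
    obtain ⟨r, hr⟩ := hfac ((homologyFunctor A m).map T.mor₁) (by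
      rw [← Functor.map_comp]
      exact (congrArg _ (comp_distTriang_mor_zero₁₂ T hT)).trans (Functor.map_zero _ _ _))
    have hgm : (homologyFunctor A m).map g ≫ (homologyFunctor A m).map T.mor₁ =
        (homologyFunctor A m).map (Q.map F) := by rw [← Functor.map_comp, ← hg]; rfl
    exact ⟨r, (cancel_mono ((homologyFunctor A m).map (Q.map F))).1 ((Category.assoc _ _ _).trans
        ((congrArg (_ ≫ ·) hr).trans (hgm.trans (Category.id_comp _).symm))),
      (cancel_mono ((homologyFunctor A m).map T.mor₁)).1 ((Category.assoc _ _ _).trans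
        ((congrArg (_ ≫ ·) hgm).trans (hr.trans (Category.id_comp _).symm)))⟩
  have : IsIso g := (DerivedCategory.isIso_iff _ g).2 hiso
  let e' := ((Q.commShiftIso (-1 : ℤ)).app C).symm
  obtain ⟨h, hh⟩ := DHA.KInj.Q_map_surjective K (C⟦(-1 : ℤ)⟧) (g ≫ e'.hom)
  exact ⟨_, h, inferInstance, (isIso_Q_map_iff_quasiIso _ _).1 (hh ▸ inferInstance)⟩

end Groth.Agent.CohDerLib.RFLim
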