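import Mathlib.Algebra.Homology.Refinements
import Mathlib.Algebra.Homology.QuasiIso
import Mathlib.Algebra.Homology.HomologicalComplexLimits
import Mathlib.Algebra.Homology.HomotopyCategory.HomComplex
import Mathlib.CategoryTheory.Abelian.Refinements
import Mathlib.CategoryTheory.Limits.Preserves.Shapes.Products

/-!
# Countable products of quasi-isomorphisms when countable products preserve epimorphisms
-/

universe v u

open CategoryTheory CategoryTheory.Limits CochainComplex.HomComplex

namespace Groth.Agent.CohDerLib.RFLim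

variable {B : Type u} [Category.{v} B] [Abelian B] [HasProductsOfShape ℕ B]
  [(lim : (Discrete ℕ ⥤ B) ⥤ B).PreservesEpimorphisms]

omit [Abelian B] in
lemma epi_piMap {X Y : ℕ → B} (f : ∀ n, X n ⟶ Y n) [∀ n, Epi (f n)] : Epi (Limits.Pi.map f) := by
  have : ∀ j : Discrete ℕ, Epi ((Discrete.natTrans (F := Discrete.functor X)
      (G := Discrete.functor Y) fun j => f j.as).app j) := fun j => by
    simpa using inferInstanceAs (Epi (f j.as))
  have : Epi (Discrete.natTrans (F := Discrete.functor X) (G := Discrete.functor Y) fun j => f j.as) :=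
    NatTrans.epi_of_epi_app _
  exact Functor.map_epi (lim : (Discrete ℕ ⥤ B) ⥤ B) _

/-- countably many covers have a common refinement -/
lemma exists_common_refinement {T : B} {T' : ℕ → B} (π : ∀ n, T' n ⟶ T) [∀ n, Epi (π n)] :
    ∃ (T'' : B) (q : T'' ⟶ T) (_ : Epi q) (r : ∀ n, T'' ⟶ T' n), ∀ n, r n ≫ π n = q := by
  have := epi_piMap π
  let Δ : T ⟶ ∏ᶜ fun _ : ℕ => T := Pi.lift fun _ => 𝟙 T
  refine ⟨pullback (Limits.Pi.map π) Δ, pullback.snd _ _, inferInstance,
    fun n => pullback.fst _ _ ≫ Pi.π T' n, fun n => ?_⟩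
  have h := congrArg (· ≫ Pi.π (fun _ => T) n) (pullback.condition (f := Limits.Pi.map π) (g := Δ))
  simpa [Δ] using h

section

variable {ι : Type*} {K : ι → CochainComplex B ℤ} (c : Fan K) (hc : IsLimit c)

/-- the degreewise limit fan -/
noncomputable def evalIsLimit [HasLimitsOfShape (Discrete ι) B] (p : ℤ) :
    IsLimit (Fan.mk (c.pt.X p) (fun n => (c.proj n).f p)) :=
  isLimitFanMkObjOfIsLimit (HomologicalComplex.eval B (ComplexShape.up ℤ) p) K _
    (IsLimit.ofIsoLimit hc (Cone.ext (Iso.refl _) (fun j => by simp [Fan.proj])))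

end

theorem quasiIso_of_isLimit {K L : ℕ → CochainComplex B ℤ} (c : Fan K) (hc : IsLimit c)
    (d : Fan L) (hd : IsLimit d) (s : ∀ n, K n ⟶ L n) [∀ n, QuasiIso (s n)] (φ : c.pt ⟶ d.pt)
    (hφ : ∀ n, φ ≫ d.proj n = c.proj n ≫ s n) : QuasiIso φ := by
  have hcomp : ∀ n p, φ.f p ≫ (d.proj n).f p = (c.proj n).f p ≫ (s n).f p := fun n p => by
    rw [← HomologicalComplex.comp_f, hφ, HomologicalComplex.comp_f]
  rw [quasiIso_iff]
  intro j
  rw [quasiIsoAt_iff_isIso_homologyMap]
  obtain ⟨i, rfl⟩ : ∃ i, j = i + 1 := ⟨j - 1, by omega⟩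
  have hs : ∀ n, IsIso (HomologicalComplex.homologyMap (s n) (i + 1)) := fun n => inferInstance
  have : Mono (HomologicalComplex.homologyMap φ (i + 1)) := by
    rw [HomologicalComplex.mono_homologyMap_iff_up_to_refinements φ i (i + 1) (i + 1 + 1)
      (by simp) (by simp)]
    intro T x hx y hy
    have h : ∀ n, ∃ (T' : B) (π : T' ⟶ T) (_ : Epi π) (w : T' ⟶ (K n).X i),
        π ≫ x ≫ (c.proj n).f (i + 1) = w ≫ (K n).d i (i + 1) := fun n => by
      refine (HomologicalComplex.mono_homologyMap_iff_up_to_refinements (s n) i (i + 1) (i + 1 + 1)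
        (by simp) (by simp)).1 inferInstance _ ?_ (y ≫ (d.proj n).f i) ?_
      · rw [Category.assoc, (c.proj n).comm, reassoc_of% hx, zero_comp]
      · rw [Category.assoc, ← hcomp, reassoc_of% hy, Category.assoc, (d.proj n).comm]
    choose T' π hπ w hw using h
    obtain ⟨T'', q, hq, r, hr⟩ := exists_common_refinement π
    refine ⟨T'', q, hq, Fan.IsLimit.lift (evalIsLimit c hc i) fun n => r n ≫ w n,
      Fan.IsLimit.hom_ext (evalIsLimit c hc (i + 1)) _ _ fun n => ?_⟩
    simp only [fan_mk_proj, Category.assoc]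
    rw [← (c.proj n).comm, ← Category.assoc (Fan.IsLimit.lift _ _),
      show (Fan.IsLimit.lift (evalIsLimit c hc i) fun n => r n ≫ w n) ≫ (c.proj n).f i =
        r n ≫ w n from Fan.IsLimit.fac _ _ _, Category.assoc, ← hw, ← hr n, Category.assoc]
  have : Epi (HomologicalComplex.homologyMap φ (i + 1)) := by
    rw [HomologicalComplex.epi_homologyMap_iff_up_to_refinements φ i (i + 1) (i + 1 + 1)
      (by simp) (by simp)]
    intro T y hy
    have h : ∀ n, ∃ (T' : B) (π : T' ⟶ T) (_ : Epi π) (x : T' ⟶ (K n).X (i + 1))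
        (_ : x ≫ (K n).d (i + 1) (i + 1 + 1) = 0) (w : T' ⟶ (L n).X i),
        π ≫ y ≫ (d.proj n).f (i + 1) = x ≫ (s n).f (i + 1) + w ≫ (L n).d i (i + 1) := fun n => by
      refine (HomologicalComplex.epi_homologyMap_iff_up_to_refinements (s n) i (i + 1) (i + 1 + 1)
        (by simp) (by simp)).1 inferInstance _ ?_
      rw [Category.assoc, (d.proj n).comm, reassoc_of% hy, zero_comp]
    choose T' π hπ x hx w hw using h
    obtain ⟨T'', q, hq, r, hr⟩ := exists_common_refinement π
    let x' := Fan.IsLimit.lift (evalIsLimit c hc (i + 1)) fun n => r n ≫ x n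
    let w' := Fan.IsLimit.lift (evalIsLimit d hd i) fun n => r n ≫ w n
    have hx' : ∀ n, x' ≫ (c.proj n).f (i + 1) = r n ≫ x n := fun n => Fan.IsLimit.fac _ _ _
    have hw' : ∀ n, w' ≫ (d.proj n).f i = r n ≫ w n := fun n => Fan.IsLimit.fac _ _ _
    refine ⟨T'', q, hq, x', Fan.IsLimit.hom_ext (evalIsLimit c hc (i + 1 + 1)) _ _ fun n => ?_,
      w', Fan.IsLimit.hom_ext (evalIsLimit d hd (i + 1)) _ _ fun n => ?_⟩
    · simp only [fan_mk_proj, Category.assoc, zero_comp]
      rw [← (c.proj n).comm, reassoc_of% (hx' n), hx, comp_zero]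
    · simp only [fan_mk_proj, Category.assoc, Preadditive.add_comp]
      rw [hcomp, ← (d.proj n).comm, reassoc_of% (hx' n), reassoc_of% (hw' n), ← hr n,
        Category.assoc, hw, Preadditive.comp_add]
  exact isIso_of_mono_of_epi _

end Groth.Agent.CohDerLib.RFLim
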